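import Groth.Prelude.Def_GLin
import Mathlib.Algebra.MonoidAlgebra.Basic
import Mathlib.RingTheory.Coalgebra.MonoidAlgebra
import Mathlib.LinearAlgebra.TensorProduct.Basis

/-!
Weight decomposition for coactions of group algebras.
-/

set_option autoImplicit false
set_option linter.unusedSectionVars false

universe u v w

open TensorProduct

namespace Groth.Agent.CTor66

variable {k : Type u} [Field k] {Λ : Type v} [AddCommGroup Λ] {R : Type w} [CommRing R] [Algebra k R]
  [HopfRep.Comod k (AddMonoidAlgebra k Λ) R]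

local notation "H" => AddMonoidAlgebra k Λ
local notation "co" => HopfRep.Comod.coact (k := k) (A := AddMonoidAlgebra k Λ) (V := R)

/-- Weight spaces. -/
noncomputable abbrev wt (l : Λ) : Submodule k R := HopfRep.eigenspace k (AddMonoidAlgebra k Λ) R (AddMonoidAlgebra.single l (1 : k) : AddMonoidAlgebra k Λ)

/-- The coefficient at a weight. -/
noncomputable def cf (l : Λ) : H →ₗ[k] k :=
  Finsupp.lapply l ∘ₗ (AddMonoidAlgebra.coeffLinearEquiv k : AddMonoidAlgebra k Λ ≃ₗ[k] Λ →₀ k).toLinearMap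

theorem cf_e [DecidableEq Λ] (l l' : Λ) : cf (k := k) l (AddMonoidAlgebra.single l' (1 : k) : AddMonoidAlgebra k Λ) = if l' = l then 1 else 0 := by
  simp [cf, Finsupp.single_apply]

/-- The component of a function of given weight. -/
noncomputable def pr (l : Λ) : R →ₗ[k] R :=
  (TensorProduct.rid k R).toLinearMap ∘ₗ (cf l).lTensor R ∘ₗ co

theorem pr_of_mem [DecidableEq Λ] {l l' : Λ} {r : R} (h : r ∈ wt (k := k) l') :
    pr (k := k) l r = if l' = l then r else 0 := by
  have h' : co r = r ⊗ₜ[k] (AddMonoidAlgebra.single l' (1 : k) : AddMonoidAlgebra k Λ) := h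
  simp only [pr, LinearMap.comp_apply, h', LinearMap.lTensor_tmul, cf_e, LinearEquiv.coe_coe, TensorProduct.rid_tmul]
  split <;> simp

theorem sum_add (f g : Λ →₀ R) :
    (f + g).sum (fun l x => x ⊗ₜ[k] (AddMonoidAlgebra.single l (1 : k) : AddMonoidAlgebra k Λ)) =
      f.sum (fun l x => x ⊗ₜ[k] (AddMonoidAlgebra.single l (1 : k) : AddMonoidAlgebra k Λ)) +
      g.sum (fun l x => x ⊗ₜ[k] (AddMonoidAlgebra.single l (1 : k) : AddMonoidAlgebra k Λ)) :=
  Finsupp.sum_add_index' (h := fun l x => x ⊗ₜ[k] (AddMonoidAlgebra.single l (1 : k) : AddMonoidAlgebra k Λ))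
    (fun _ => zero_tmul R _) fun _ x y => add_tmul x y _

theorem exists_sum (x : R ⊗[k] H) : ∃ f : Λ →₀ R, x = f.sum fun l r => r ⊗ₜ[k] (AddMonoidAlgebra.single l (1 : k) : AddMonoidAlgebra k Λ) := by
  classical
  induction x using TensorProduct.induction_on with
  | zero => exact ⟨0, by simp⟩
  | add p q hp hq =>
    obtain ⟨f, rfl⟩ := hp
    obtain ⟨g, rfl⟩ := hq
    exact ⟨f + g, (sum_add f g).symm⟩
  | tmul r h =>
    induction h using AddMonoidAlgebra.induction_linear with
    | zero => exact ⟨0, by simp⟩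
    | add a b ha hb =>
      obtain ⟨f, hf⟩ := ha
      obtain ⟨g, hg⟩ := hb
      exact ⟨f + g, by rw [tmul_add, hf, hg, sum_add]⟩
    | single l c =>
      refine ⟨Finsupp.single l (c • r), ?_⟩
      rw [Finsupp.sum_single_index]
      · rw [smul_tmul]
        congr 1
        rw [AddMonoidAlgebra.smul_single, smul_eq_mul, _root_.mul_one]
      · exact zero_tmul R _

theorem exists_decomp (r : R) : ∃ f : Λ →₀ R, (∀ l, f l ∈ wt (k := k) l) ∧ r = f.sum (fun _ x => x) ∧
    co r = f.sum (fun l x => x ⊗ₜ[k] (AddMonoidAlgebra.single l (1 : k) : AddMonoidAlgebra k Λ)) := by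
  classical
  obtain ⟨f, hf⟩ := exists_sum (co r)
  refine ⟨f, fun l => ?_, ?_, hf⟩
  · have hc := LinearMap.congr_fun (HopfRep.Comod.coassoc (k := k) (A := H) (V := R)) r
    simp only [LinearMap.comp_apply, hf, map_finsuppSum, LinearMap.rTensor_tmul, LinearMap.lTensor_tmul,
      LinearEquiv.coe_coe] at hc
    have h2 := congrArg (fun t => (TensorProduct.rid k (R ⊗[k] H)).toLinearMap
      ((cf l).lTensor (R ⊗[k] H) ((TensorProduct.assoc k R H H).symm t))) hc
    simp only [Finsupp.sum, map_sum] at h2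
    simp only [LinearEquiv.symm_apply_apply, LinearMap.lTensor_tmul, LinearEquiv.coe_coe,
      TensorProduct.rid_tmul, AddMonoidAlgebra.comul_single, CommSemiring.comul_apply, TensorProduct.map_tmul,
      AddMonoidAlgebra.lsingle_apply, TensorProduct.assoc_symm_tmul, cf_e, Finsupp.sum_ite_eq',
      Finsupp.mem_support_iff, ite_smul, one_smul, zero_smul, Finsupp.sum, Finset.sum_ite_eq'] at h2
    show co (f l) = f l ⊗ₜ[k] (AddMonoidAlgebra.single l (1 : k) : AddMonoidAlgebra k Λ)
    by_cases h0 : f l = 0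
    · rw [h0, map_zero, zero_tmul]
    · simpa [h0] using h2
  · have hc := LinearMap.congr_fun (HopfRep.Comod.counit_comp (k := k) (A := H) (V := R)) r
    simp only [LinearMap.comp_apply, hf, map_finsuppSum, LinearMap.lTensor_tmul, LinearEquiv.coe_coe] at hc
    have h2 := congrArg (TensorProduct.rid k R) hc
    simpa [map_finsuppSum] using h2.symm

theorem pr_eq [DecidableEq Λ] {r : R} {f : Λ →₀ R} (hf : ∀ l, f l ∈ wt (k := k) l) (hr : r = f.sum fun _ x => x)
    (l : Λ) : pr (k := k) l r = f l := by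
  subst hr
  rw [map_finsuppSum, Finsupp.sum]
  simp only [pr_of_mem (hf _), Finset.sum_ite_eq']
  split
  · rfl
  · rename_i h
    exact (Finsupp.notMem_support_iff.1 h).symm

variable [GLin.IsCoactAlg k (AddMonoidAlgebra k Λ) R]

theorem mul_mem_wt {l l' : Λ} {x y : R} (hx : x ∈ wt (k := k) l) (hy : y ∈ wt (k := k) l') :
    x * y ∈ wt (k := k) (l + l') := by
  show co (x * y) = _
  rw [GLin.IsCoactAlg.coact_mul, show co x = _ from hx, show co y = _ from hy, Algebra.TensorProduct.tmul_mul_tmul,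
    AddMonoidAlgebra.single_mul_single, _root_.mul_one]

theorem mem_invariants {x : R} : x ∈ GLin.invariants k H R ↔ x ∈ wt (k := k) (0 : Λ) := Iff.rfl

theorem pr_mem (l : Λ) (r : R) : pr (k := k) l r ∈ wt (k := k) l := by
  classical
  obtain ⟨f, hf, hr, -⟩ := exists_decomp (k := k) (Λ := Λ) r
  rw [pr_eq hf hr]
  exact hf l

/-- Multiples of a non-zero weight vector have no invariant component when opposite weights do not occur. -/
theorem pr_zero_mul (hpos : ∀ l : Λ, wt (k := k) (R := R) l ≠ ⊥ → wt (k := k) (R := R) (-l) ≠ ⊥ → l = 0)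
    {l : Λ} (hl : l ≠ 0) {x : R} (hx : x ∈ wt (k := k) l) (c : R) : pr (k := k) (0 : Λ) (c * x) = 0 := by
  classical
  obtain ⟨f, hf, hc, -⟩ := exists_decomp (k := k) (Λ := Λ) c
  rw [hc, Finsupp.sum, Finset.sum_mul, map_sum]
  refine Finset.sum_eq_zero fun l' _ => ?_
  rw [pr_of_mem (mul_mem_wt (hf l') hx)]
  split
  · rename_i h
    by_contra hne
    refine hl (hpos l (fun hb => hne ?_) fun hb => hne ?_)
    · rw [hb, Submodule.mem_bot] at hx
      rw [hx, MulZeroClass.mul_zero]
    · have := hf l'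
      rw [eq_neg_of_add_eq_zero_left h, hb, Submodule.mem_bot] at this
      rw [eq_neg_of_add_eq_zero_left h, this, MulZeroClass.zero_mul]
  · rfl

variable (k Λ R) in
/-- The ideal of the fixed points. -/
abbrev fixIdeal : Ideal R :=
  Ideal.span {f : R | ∃ l : Λ, l ≠ 0 ∧ f ∈ HopfRep.eigenspace k (AddMonoidAlgebra k Λ) R (AddMonoidAlgebra.single l 1)}

theorem sub_pr_mem (r : R) : r - pr (k := k) (0 : Λ) r ∈ fixIdeal k Λ R := by
  classical
  obtain ⟨f, hf, hr, -⟩ := exists_decomp (k := k) (Λ := Λ) r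
  rw [pr_eq hf hr, hr, Finsupp.sum]
  by_cases h : (0 : Λ) ∈ f.support
  · rw [← Finset.add_sum_erase _ _ h, add_sub_cancel_left]
    exact Ideal.sum_mem _ fun l hl => Ideal.subset_span ⟨l, Finset.ne_of_mem_erase hl, hf l⟩
  · rw [Finsupp.notMem_support_iff.1 h, sub_zero]
    exact Ideal.sum_mem _ fun l hl => Ideal.subset_span ⟨l, fun h0 => h (h0 ▸ hl), hf l⟩

theorem pr_fixIdeal (hpos : ∀ l : Λ, wt (k := k) (R := R) l ≠ ⊥ → wt (k := k) (R := R) (-l) ≠ ⊥ → l = 0)
    {x : R} (hx : x ∈ fixIdeal k Λ R) : pr (k := k) (0 : Λ) x = 0 := by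
  suffices H' : ∀ c : R, pr (k := k) (0 : Λ) (c * x) = 0 by simpa using H' 1
  induction hx using Submodule.span_induction with
  | mem y hy =>
    obtain ⟨l, hl, hy⟩ := hy
    exact pr_zero_mul hpos hl hy
  | zero => simp
  | add p q _ _ hp hq => intro c; rw [mul_add, map_add, hp, hq, add_zero]
  | smul a p _ hp => intro c; rw [smul_eq_mul, ← mul_assoc]; exact hp _

end Groth.Agent.CTor66
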